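import Groth.Agent.H06Unram.SepDegreeNormal
import Groth.Agent.H22Alg.FiniteDegree
import Groth.Agent.H22Alg.CycBasic
import Groth.Agent.H8Props.Generic

/-!
Degrees of generic fibres and numbers of points of geometric fibres.
-/

set_option autoImplicit false
set_option linter.style.haveILetI false
set_option backward.isDefEq.respectTransparency false
universe u

open CategoryTheory CategoryTheory.Limits AlgebraicGeometry TopologicalSpace IsLocalRing

namespace Groth.Agent.H06DegNormal

variable {X Y : Scheme.{u}} (f : X ⟶ Y)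

theorem residueDegree_preimmersion [IsPreimmersion f] (x : X) : f.residueDegree x = 1 := by
  unfold Scheme.Hom.residueDegree
  letI := (f.residueFieldMap x).hom.toAlgebra
  have hs : Function.Surjective (algebraMap (Y.residueField (f x)) (X.residueField x)) := fun r => by
    obtain ⟨s, rfl⟩ := X.residue_surjective x r
    obtain ⟨t, rfl⟩ := f.stalkMap_surjective x s
    exact ⟨Y.residue (f x) t, ConcreteCategory.congr_hom (Scheme.residue_residueFieldMap f x) t⟩
  exact (LinearEquiv.ofBijective (Algebra.linearMap _ _)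
    ⟨(f.residueFieldMap x).hom.injective, hs⟩).finrank_eq.symm.trans (Module.finrank_self _)

/-- The point of a monomorphism from the spectrum of a field with flat image has a fibre without multiplicity. -/
theorem finrank_sections_generic [IsReduced X] [LocallyQuasiFinite f] [LocallyOfFiniteType f] [QuasiCompact f]
    [IsSeparated f] {K : Type u} [Field K] (a : Spec (CommRingCat.of K) ⟶ Y) [IsPreimmersion a] [Flat a]
    (hfin : (f.base ⁻¹' {a (closedPoint K)}).Finite) :
    letI := (((pullback.snd f a).appTop).hom.comp (Scheme.ΓSpecIso (CommRingCat.of K)).inv.hom).toAlgebra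
    Module.finrank K Γ(pullback f a, ⊤) = ∑ x ∈ hfin.toFinset, EGA4loc.residueDegree f x := by
  classical
  let F := pullback f a
  let π : F ⟶ Spec (CommRingCat.of K) := pullback.snd f a
  let i : F ⟶ X := pullback.fst f a
  haveI : IsPreimmersion i := MorphismProperty.pullback_fst _ _ inferInstance
  haveI : Flat i := MorphismProperty.pullback_fst _ _ inferInstance
  haveI : IsReduced F := by
    haveI : ∀ z : F, _root_.IsReduced (F.presheaf.stalk z) := fun z =>
      isReduced_of_injective (RingEquiv.ofBijective (i.stalkMap z).hom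
        (H8Props.bijective_stalkMap_of_flat i z (Flat.stalkMap _ z))).symm (RingEquiv.injective _)
    exact isReduced_of_isReduced_stalk F
  haveI : LocallyQuasiFinite π := MorphismProperty.pullback_snd _ _ inferInstance
  haveI : LocallyOfFiniteType π := MorphismProperty.pullback_snd _ _ inferInstance
  haveI : QuasiCompact π := MorphismProperty.pullback_snd _ _ inferInstance
  haveI : IsFinite π := IsFinite.of_locallyQuasiFinite π
  haveI : Flat π := inferInstance
  haveI : IsLocallyArtinian F := IsLocallyArtinian.of_locallyQuasiFinite π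
  haveI : Subsingleton ↥(Spec (CommRingCat.of K)) := inferInstanceAs (Subsingleton (PrimeSpectrum K))
  let o : Spec (CommRingCat.of K) := closedPoint K
  have hmult : ∀ z : F, H22Alg.FiniteDegree.mult π z = 1 := by
    intro z
    have hK : maximalIdeal ((Spec (CommRingCat.of K)).presheaf.stalk (π z)) = ⊥ :=
      IsLocalRing.isField_iff_maximalIdeal_eq.1 (by
        rw [show π z = genericPoint (Spec (CommRingCat.of K)) from Subsingleton.elim _ _]
        exact Field.toIsField (Spec (CommRingCat.of K)).functionField)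
    haveI : IsArtinianRing (F.presheaf.stalk z) := by
      obtain ⟨U, hU, hzU, -⟩ := exists_isAffineOpen_mem_and_subset (X := F) (x := z) (U := ⊤) trivial
      haveI : IsArtinianRing Γ(F, U) := IsLocallyArtinian.isArtinianRing_presheaf_obj ⟨U, hU⟩
      letI := TopCat.Presheaf.algebra_section_stalk F.presheaf (⟨z, hzU⟩ : U)
      haveI := hU.isLocalization_stalk ⟨z, hzU⟩
      exact Function.Surjective.isArtinianRing
        (IsArtinianRing.localization_surjective (hU.primeIdealOf ⟨z, hzU⟩).asIdeal.primeCompl (F.presheaf.stalk z))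
    have hF : IsField (F.presheaf.stalk z) := IsArtinianRing.isField_of_isReduced_of_isLocalRing _
    rw [H22Alg.FiniteDegree.mult, hK, Ideal.map_bot,
      (Submodule.quotEquivOfEqBot (⊥ : Ideal (F.presheaf.stalk z)) rfl).length_eq]
    letI := hF.toField
    rw [show Module.length (F.presheaf.stalk z) (F.presheaf.stalk z) = 1 from Module.length_eq_one _ _]
    rfl
  have hdeg : ∀ z : F, π.residueDegree z = f.residueDegree (i z) := by
    intro z
    have h1 := H22Alg.CycBasic.residueDegree_comp i f z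
    have h2 := H22Alg.CycBasic.residueDegree_comp π a z
    rw [residueDegree_preimmersion i, mul_one] at h1
    rw [residueDegree_preimmersion a, one_mul] at h2
    rw [← h1, ← h2]
    congr 1
    exact pullback.condition.symm
  have hrange : Set.range a.base = {a o} := Set.Subset.antisymm
    (by rintro _ ⟨w, rfl⟩; rw [Subsingleton.elim w o]; exact Set.mem_singleton _)
    (Set.singleton_subset_iff.2 ⟨o, rfl⟩)
  have hir : Set.range i.base = f.base ⁻¹' {a o} := by rw [← hrange]; exact Scheme.Pullback.range_fst f a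
  have hsum : ∑ᶠ z ∈ π ⁻¹' {o}, H22Alg.FiniteDegree.mult π z * π.residueDegree z =
      ∑ᶠ x ∈ f.base ⁻¹' {a o}, f.residueDegree x := by
    refine finsum_mem_eq_of_bijOn i ⟨fun z _ => hir.le ⟨z, rfl⟩, i.isEmbedding.injective.injOn, ?_⟩
      fun z _ => by rw [hmult, hdeg, one_mul]
    intro x hx
    obtain ⟨z, rfl⟩ := hir.ge hx
    exact ⟨z, Subsingleton.elim _ _, rfl⟩
  rw [H22Alg.FiniteDegree.finsum_fibre_eq_finrank π o, finsum_mem_eq_finite_toFinset_sum _ hfin] at hsum
  refine Eq.trans ?_ hsum
  have hV : IsAffineOpen (⊤ : (Spec (CommRingCat.of K)).Opens) := isAffineOpen_top _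
  rw [H22Alg.FiniteDegree.finrank_eq_rankAtStalk π hV ⟨o, trivial⟩]
  letI := ((pullback.snd f a).appTop.hom.comp (Scheme.ΓSpecIso (CommRingCat.of K)).inv.hom).toAlgebra
  letI : Algebra Γ(Spec (CommRingCat.of K), ⊤) Γ(F, π ⁻¹ᵁ ⊤) := (π.app ⊤).hom.toAlgebra
  let e := (Scheme.ΓSpecIso (CommRingCat.of K)).symm.commRingCatIsoToRingEquiv
  letI : Field Γ(Spec (CommRingCat.of K), ⊤) := (e.symm.toMulEquiv.isField (Field.toIsField K)).toField
  rw [Module.rankAtStalk_eq_finrank_of_free]
  exact Algebra.finrank_eq_of_equiv_equiv e (RingEquiv.refl _) (RingHom.ext fun _ => rfl)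

/-- The geometric fibre of a locally quasi-finite morphism has as many points as geometric lifts. -/
theorem card_pullback [LocallyOfFiniteType f] [LocallyQuasiFinite f] [QuasiCompact f] {Ω : Type u} [Field Ω]
    [IsAlgClosed Ω] (a : Spec (CommRingCat.of Ω) ⟶ Y) (hfin : (f.base ⁻¹' {H7Weight.pt a}).Finite) :
    Nat.card ↥(pullback f a) = ∑ x ∈ hfin.toFinset, EGA4loc.residueSepDegree f x := by
  classical
  let π := pullback.snd f a
  haveI : LocallyQuasiFinite π := MorphismProperty.pullback_snd _ _ inferInstance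
  haveI : LocallyOfFiniteType π := MorphismProperty.pullback_snd _ _ inferInstance
  haveI : QuasiCompact π := MorphismProperty.pullback_snd _ _ inferInstance
  haveI : Subsingleton ↥(Spec (CommRingCat.of Ω)) := inferInstanceAs (Subsingleton (PrimeSpectrum Ω))
  rw [← (H06Unram.SepDegreeNormal.card_pts f a hfin).2,
    ← Nat.card_congr (((H7Weight.ptsBaseChange (IsPullback.of_hasPullback f a) (𝟙 _))).trans
      (Equiv.subtypeEquivRight fun s => by rw [Category.id_comp]))]
  refine (Nat.card_congr (Equiv.ofBijective (fun s : H7Weight.Pts π (𝟙 _) => H7Weight.pt s.1) ?_)).symm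
  have h1 : ∀ z : ↥(pullback f a),
      Nat.card {s : H7Weight.Pts π (𝟙 _) // H7Weight.pt s.1 = z} = 1 := by
    intro z
    have hq : π.QuasiFiniteAt z :=
      H06Unram.SepDegreeFibre.quasiFiniteAt_of_finite π (π.finite_preimage_singleton (π z)) rfl
    rw [(H06Unram.SepDegreeFibre.card_pts_at π (𝟙 _) z hq (Subsingleton.elim _ _)).2]
    unfold EGA4loc.residueSepDegree
    letI := (π.residueFieldMap z).hom.toAlgebra
    haveI : Module.Finite ((Spec (CommRingCat.of Ω)).residueField (π z)) ((pullback f a).residueField z) :=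
      H06Unram.SepDegreeFibre.finite_residue π hq
    haveI : IsAlgClosed ((Spec (CommRingCat.of Ω)).residueField (π.base z)) := by
      haveI : (π.base z : PrimeSpectrum Ω).asIdeal.IsMaximal := by
        rw [(Ideal.eq_bot_or_top (π.base z : PrimeSpectrum Ω).asIdeal).resolve_right
          (π.base z : PrimeSpectrum Ω).isPrime.ne_top]
        exact Ideal.bot_isMaximal
      refine IsAlgClosed.of_ringEquiv Ω _ ((RingEquiv.ofBijective
        (algebraMap Ω (π.base z : PrimeSpectrum Ω).asIdeal.ResidueField) ⟨RingHom.injective _, ?_⟩).trans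
          (Scheme.Spec.residueFieldIso (CommRingCat.of Ω) (π.base z)).symm.commRingCatIsoToRingEquiv)
      rw [IsScalarTower.algebraMap_eq Ω (Ω ⧸ (π.base z : PrimeSpectrum Ω).asIdeal)]
      exact (Ideal.bijective_algebraMap_quotient_residueField _).2.comp Ideal.Quotient.mk_surjective
    exact le_antisymm ((Field.finSepDegree_le_finrank _ _).trans
      (le_of_eq ((LinearEquiv.ofBijective (Algebra.linearMap _ _) IsAlgClosed.algebraMap_bijective_of_isIntegral).finrank_eq.symm.trans
        (Module.finrank_self _)))) (Nat.pos_of_ne_zero (NeZero.ne _))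
  refine ⟨fun s s' h => ?_, fun z => ?_⟩
  · obtain ⟨hs, -⟩ := Nat.card_eq_one_iff_unique.mp (h1 (H7Weight.pt s.1))
    have := hs.elim ⟨s, rfl⟩ ⟨s', h.symm⟩
    exact congrArg Subtype.val this
  · obtain ⟨-, ⟨s, hs⟩⟩ := Nat.card_eq_one_iff_unique.mp (h1 z)
    exact ⟨s, hs⟩

theorem exists_isIntegral_nbhd [IrreducibleSpace Y] [IsLocallyNoetherian Y] (y : Y)
    [IsDomain (Y.presheaf.stalk y)] : ∃ V : Y.Opens, y ∈ V ∧ IsIntegral V.toScheme := by
  classical
  obtain ⟨W, hW, hyW, -⟩ := exists_isAffineOpen_mem_and_subset (X := Y) (x := y) (U := ⊤) trivial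
  haveI := IsLocallyNoetherian.component_noetherian (X := Y) ⟨W, hW⟩
  letI := TopCat.Presheaf.algebra_section_stalk Y.presheaf (⟨y, hyW⟩ : W)
  haveI := hW.isLocalization_stalk ⟨y, hyW⟩
  let p := (hW.primeIdealOf ⟨y, hyW⟩).asIdeal
  let S : Type u := Y.presheaf.stalk y
  obtain ⟨T, hT⟩ := IsNoetherian.noetherian (nilradical Γ(Y, W))
  have h0 : ∀ a ∈ T, ∃ s : p.primeCompl, (s : Γ(Y, W)) * a = 0 := fun a ha => by
    refine (IsLocalization.map_eq_zero_iff p.primeCompl S a).mp ?_
    have hnil : IsNilpotent a := mem_nilradical.mp (hT ▸ Submodule.subset_span ha)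
    exact (hnil.map (algebraMap Γ(Y, W) S)).eq_zero
  choose s hs using h0
  let t : Γ(Y, W) := ∏ a ∈ T.attach, (s a.1 a.2 : Γ(Y, W))
  have ht : t ∈ p.primeCompl := prod_mem fun a _ => (s a.1 a.2).2
  have hkill : ∀ a ∈ nilradical Γ(Y, W), t * a = 0 := fun a ha => by
    rw [← hT] at ha
    induction ha using Submodule.span_induction with
    | mem x hx =>
      show (∏ a ∈ T.attach, (s a.1 a.2 : Γ(Y, W))) * x = 0
      rw [← Finset.mul_prod_erase _ _ (Finset.mem_attach T ⟨x, hx⟩), mul_comm (s x hx : Γ(Y, W)), mul_assoc,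
        hs x hx, mul_zero]
    | zero => rw [mul_zero]
    | add a b _ _ ha hb => rw [mul_add, ha, hb, add_zero]
    | smul r a _ ha => rw [smul_eq_mul, mul_left_comm, ha, mul_zero]
  let V := Y.basicOpen t
  have hV : IsAffineOpen V := hW.basicOpen t
  have hyV : y ∈ V := by
    rw [Scheme.mem_basicOpen Y t y hyW]
    exact (IsLocalization.AtPrime.isUnit_to_map_iff S p t).mpr ht
  haveI : _root_.IsReduced Γ(Y, V) := by
    letI : Algebra Γ(Y, W) Γ(Y, V) := (Y.presheaf.map (homOfLE (Y.basicOpen_le t)).op).hom.toAlgebra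
    haveI : IsLocalization.Away t Γ(Y, V) := hW.isLocalization_basicOpen t
    refine ⟨fun z ⟨n, hn⟩ => ?_⟩
    obtain ⟨a, m, rfl⟩ := IsLocalization.exists_mk'_eq (Submonoid.powers t) z
    obtain ⟨⟨c, hc⟩, hc0⟩ := (IsLocalization.map_eq_zero_iff (Submonoid.powers t) Γ(Y, V) (a ^ n)).mp (by
      rw [map_pow, ← IsLocalization.mk'_spec Γ(Y, V) a m, mul_pow, hn, zero_mul])
    have hnil : c * a ∈ nilradical Γ(Y, W) := mem_nilradical.mpr ⟨n + 1, by
      rw [mul_pow, pow_succ c n, pow_succ a n, mul_assoc, ← mul_assoc c (a ^ n) a, hc0, zero_mul, mul_zero]⟩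
    rw [IsLocalization.mk'_eq_zero_iff]
    exact ⟨⟨t * c, Submonoid.mul_mem _ (Submonoid.mem_powers t) hc⟩, by rw [mul_assoc]; exact hkill _ hnil⟩
  haveI : IsAffine V.toScheme := hV
  haveI : _root_.IsReduced Γ(V.toScheme, ⊤) :=
    isReduced_of_injective V.topIso.commRingCatIsoToRingEquiv (RingEquiv.injective _)
  haveI : IsReduced (Spec Γ(V.toScheme, ⊤)) := inferInstance
  haveI : IsReduced V.toScheme := isReduced_of_isOpenImmersion V.toScheme.isoSpec.hom
  haveI : IrreducibleSpace V.toScheme :=
    Subtype.irreducibleSpace ⟨⟨y, hyV⟩,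
      (PreirreducibleSpace.isPreirreducible_univ (X := Y)).open_subset V.2 (Set.subset_univ _)⟩
  exact ⟨V, hyV, isIntegral_of_irreducibleSpace_of_isReduced V.toScheme⟩

/-- Restriction to a smaller open keeps properties local on the target. -/
theorem restrict_of_le (P : MorphismProperty Scheme.{u}) [IsZariskiLocalAtTarget P] {U W : Y.Opens}
    (hle : W ≤ U) (h : P (f ∣_ U)) : P (f ∣_ W) := by
  have h' := IsZariskiLocalAtTarget.restrict h (U.ι ⁻¹ᵁ W)
  rw [MorphismProperty.arrow_mk_iso_iff P (morphismRestrictRestrict f U (U.ι ⁻¹ᵁ W))] at h'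
  rwa [show U.ι ''ᵁ (U.ι ⁻¹ᵁ W) = W from by
    rw [Scheme.Hom.image_preimage_eq_opensRange_inf, Scheme.Opens.opensRange_ι]
    exact inf_eq_right.2 hle] at h'

/-- Geometric fibres over points of an open can be counted on the open. -/
theorem card_pullback_restrict [LocallyOfFiniteType f] [LocallyQuasiFinite f] [QuasiCompact f] {Ω : Type u}
    [Field Ω] [IsAlgClosed Ω] (V : Y.Opens) (a : Spec (CommRingCat.of Ω) ⟶ Y) (y' : V.toScheme)
    (hy : a (closedPoint Ω) = V.ι y') (hfy : ((f ∣_ V).base ⁻¹' {y'}).Finite) :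
    Nat.card ↥(pullback f a) = ∑ x ∈ hfy.toFinset, EGA4loc.residueSepDegree (f ∣_ V) x := by
  haveI : Subsingleton ↥(Spec (CommRingCat.of Ω)) := inferInstanceAs (Subsingleton (PrimeSpectrum Ω))
  haveI : LocallyOfFiniteType (f ∣_ V) := IsZariskiLocalAtTarget.restrict ‹_› V
  haveI : LocallyQuasiFinite (f ∣_ V) := IsZariskiLocalAtTarget.restrict ‹_› V
  haveI : QuasiCompact (f ∣_ V) := IsZariskiLocalAtTarget.restrict ‹_› V
  have har : Set.range a ⊆ Set.range V.ι := by
    rintro _ ⟨z, rfl⟩
    rw [Subsingleton.elim z (closedPoint Ω), hy]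
    exact ⟨y', rfl⟩
  let a' := IsOpenImmersion.lift V.ι a har
  have ha' : a' ≫ V.ι = a := IsOpenImmersion.lift_fac _ _ _
  have h0 := (IsPullback.of_hasPullback (f ∣_ V) a').paste_horiz (isPullback_morphismRestrict f V).flip
  rw [ha'] at h0
  have hpt : H7Weight.pt a' = y' := V.ι.isOpenEmbedding.injective (by
    rw [← Scheme.Hom.comp_apply, ha']; exact hy)
  subst hpt
  rw [← card_pullback (f ∣_ V) a' hfy]
  exact (Nat.card_congr h0.isoPullback.schemeIsoToHomeo.toEquiv).symm

/-- Count over an algebraically closed extension of the residue field. -/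
theorem card_pullback_residue [LocallyOfFiniteType f] [LocallyQuasiFinite f] [QuasiCompact f]
    (V : Y.Opens) (y : Y) (hy : y ∈ V) (Ω : Type u) [Field Ω] [IsAlgClosed Ω] [Algebra (Y.residueField y) Ω]
    (hfy : ((f ∣_ V).base ⁻¹' {(⟨y, hy⟩ : V.toScheme)}).Finite) :
    Nat.card ↥(pullback f (Spec.map (CommRingCat.ofHom (algebraMap (Y.residueField y) Ω)) ≫ Y.fromSpecResidueField y)) =
      ∑ x ∈ hfy.toFinset, EGA4loc.residueSepDegree (f ∣_ V) x :=
  card_pullback_restrict f V _ ⟨y, hy⟩
    ((Scheme.Hom.comp_apply _ _ _).trans (Scheme.fromSpecResidueField_apply _ _)) hfy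

end Groth.Agent.H06DegNormal
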